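import Groth.Agent.Lib.FlatDvrMod5.Main
import Groth.Agent.Lib.HTop26.DVRLift
import Mathlib.AlgebraicGeometry.Morphisms.Flat
import Mathlib.AlgebraicGeometry.Morphisms.FiniteType

/-!
# Flatness descends along universally submersive morphisms to a reduced Noetherian base
-/

set_option autoImplicit false
set_option backward.isDefEq.respectTransparency false
set_option linter.style.haveILetI false
set_option maxHeartbeats 800000

universe u

open CategoryTheory CategoryTheory.Limits AlgebraicGeometry TensorProduct IsLocalRing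

namespace Groth.Agent.FlatSubm5

/-- A pullback square stays one after composing with a monomorphism. -/
theorem isPullback_comp_mono {C : Type*} [Category C] {P X Y Z W : C} {fst : P ⟶ X} {snd : P ⟶ Y}
    {f : X ⟶ Z} {g : Y ⟶ Z} (h : IsPullback fst snd f g) (m : Z ⟶ W) [Mono m] :
    IsPullback fst snd (f ≫ m) (g ≫ m) := by
  refine ⟨⟨by rw [reassoc_of% h.w]⟩, ⟨PullbackCone.IsLimit.mk _ (fun s => h.lift s.fst s.snd ?_)
    (fun s => h.lift_fst _ _ _) (fun s => h.lift_snd _ _ _) (fun s t h₁ h₂ => ?_)⟩⟩
  · rw [← cancel_mono m, Category.assoc, Category.assoc, s.condition]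
  · apply h.hom_ext
    · rw [h.lift_fst]; exact h₁
    · rw [h.lift_snd]; exact h₂

/-- A base change to an affine scheme of a flat morphism, in terms of rings. -/
theorem flat_tensorProduct {A B W : Type u} [CommRing A] [CommRing B] [CommRing W] [Algebra A B]
    [Algebra A W] {X S S' : Scheme.{u}} {f : X ⟶ S} {g : S' ⟶ S} (hflat : Flat (pullback.snd f g))
    (iA : Spec (CommRingCat.of A) ⟶ S) [Mono iA] (iB : Spec (CommRingCat.of B) ⟶ X) [IsOpenImmersion iB]
    (hB : iB ≫ f = Spec.map (CommRingCat.ofHom (algebraMap A B)) ≫ iA)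
    (s : Spec (CommRingCat.of W) ⟶ S') (hs : s ≫ g = Spec.map (CommRingCat.ofHom (algebraMap A W)) ≫ iA) :
    Module.Flat W (W ⊗[A] B) := by
  have hP : Flat (pullback.snd (iB ≫ f) g) := by
    have sq : IsPullback (pullback.fst (iB ≫ f) g)
        (pullback.lift (pullback.fst (iB ≫ f) g ≫ iB) (pullback.snd (iB ≫ f) g)
          (by rw [Category.assoc, pullback.condition]))
        iB (pullback.fst f g) := by
      refine IsPullback.of_bot ?_ (by simp) (IsPullback.of_hasPullback f g)
      simpa using IsPullback.of_hasPullback (iB ≫ f) g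
    have : IsOpenImmersion (pullback.lift (pullback.fst (iB ≫ f) g ≫ iB) (pullback.snd (iB ≫ f) g)
        (by rw [Category.assoc, pullback.condition] : (pullback.fst (iB ≫ f) g ≫ iB) ≫ f =
          pullback.snd (iB ≫ f) g ≫ g)) :=
      MorphismProperty.of_isPullback (P := @IsOpenImmersion) sq inferInstance
    rw [show pullback.snd (iB ≫ f) g = pullback.lift (pullback.fst (iB ≫ f) g ≫ iB) (pullback.snd (iB ≫ f) g)
        (by rw [Category.assoc, pullback.condition]) ≫ pullback.snd f g from (pullback.lift_snd _ _ _).symm]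
    infer_instance
  have hsq : IsPullback (Spec.map (CommRingCat.ofHom (algebraMap W (W ⊗[A] B))))
      (Spec.map (CommRingCat.ofHom (Algebra.TensorProduct.includeRight : B →ₐ[A] W ⊗[A] B).toRingHom))
      (Spec.map (CommRingCat.ofHom (algebraMap A W)))
      (Spec.map (CommRingCat.ofHom (algebraMap A B))) :=
    isPullback_SpecMap_of_isPushout _ _ _ _ (CommRingCat.isPushout_tensorProduct A W B)
  have h2 := isPullback_comp_mono hsq iA
  rw [← hs, ← hB] at h2
  set a := Spec.map (CommRingCat.ofHom (algebraMap W (W ⊗[A] B)))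
  set b := Spec.map (CommRingCat.ofHom (Algebra.TensorProduct.includeRight : B →ₐ[A] W ⊗[A] B).toRingHom)
  have h3 : IsPullback (pullback.lift b (a ≫ s) (by rw [Category.assoc]; exact h2.w.symm)) a
      (pullback.snd (iB ≫ f) g) s := by
    refine IsPullback.of_right ?_ (by simp) (IsPullback.of_hasPullback (iB ≫ f) g)
    simpa using h2.flip
  have : Flat a := MorphismProperty.of_isPullback (P := @Flat) h3 hP
  exact RingHom.flat_algebraMap_iff.1
    ((HasRingHomProperty.Spec_iff (P := @Flat)).1 this)

/-- Descent of flatness along a universally submersive morphism of finite type. -/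
theorem flat_of_univSubmersive {X S S' : Scheme.{u}} [IsLocallyNoetherian S] [IsReduced S] (f : X ⟶ S)
    [LocallyOfFiniteType f] (g : S' ⟶ S) [LocallyOfFiniteType g] [QuasiCompact g]
    (hg : SGA1.UnivSubmersive g) (hflat : Flat (pullback.snd f g)) : Flat f := by
  rw [HasRingHomProperty.iff_appLE (P := @Flat)]
  intro U V e
  have hft : (f.appLE U.1 V.1 e).hom.FiniteType :=
    (HasRingHomProperty.iff_appLE (P := @LocallyOfFiniteType)).1 inferInstance U V e
  algebraize [(f.appLE U.1 V.1 e).hom]
  haveI : IsNoetherianRing Γ(S, U.1) := IsLocallyNoetherian.component_noetherian U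
  refine RingHom.flat_algebraMap_iff.2 (FlatDvrMod5.flat_algebra_of_dvr fun R _ _ _ _ => ?_)
  let A : Type u := Γ(S, U.1)
  let B : Type u := Γ(X, V.1)
  let φ : CommRingCat.of A ⟶ CommRingCat.of R := CommRingCat.ofHom (algebraMap A R)
  let gR : Spec (CommRingCat.of R) ⟶ S := Spec.map φ ≫ U.2.fromSpec
  obtain ⟨p₀, p, hsp, hp₀, hp⟩ := HTop26.exists_specializes_of_univSubmersive g hg gR
  haveI : IsLocallyNoetherian (pullback gR g) := LocallyOfFiniteType.isLocallyNoetherian (pullback.fst gR g)
  have hne : p ≠ p₀ := fun h => HTop26.closed_ne_gen (by rw [← hp, ← hp₀, h])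
  obtain ⟨W, hWd, hW, m, hm₀, hm⟩ := HTop26.exists_dvr_of_specializes hsp hne
  obtain ⟨ψ, hψ⟩ := Spec.map_surjective (m ≫ pullback.fst gR g)
  letI : Algebra R W := ψ.hom.toAlgebra
  letI : Algebra A W := (ψ.hom.comp (algebraMap A R)).toAlgebra
  haveI : IsScalarTower A R W := IsScalarTower.of_algebraMap_eq fun _ => rfl
  have hclosed : (maximalIdeal W).comap ψ.hom = maximalIdeal R := by
    have h1 : Spec.map ψ (closedPoint W) = closedPoint (CommRingCat.of R) := by
      rw [hψ, Scheme.Hom.comp_apply, hm, hp]
    exact congrArg PrimeSpectrum.asIdeal h1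
  have hgen : RingHom.ker ψ.hom = ⊥ := by
    have h1 : Spec.map ψ (HTop26.gen W) = HTop26.gen (CommRingCat.of R) := by
      rw [hψ, Scheme.Hom.comp_apply, hm₀, hp₀]
    exact congrArg PrimeSpectrum.asIdeal h1
  have hinj : Function.Injective (algebraMap R W) := (RingHom.injective_iff_ker_eq_bot _).2 hgen
  haveI : IsLocalHom (algebraMap R W) :=
    ((IsLocalRing.local_hom_TFAE (algebraMap R W)).out 4 0).1 hclosed
  haveI : Module.IsTorsionFree R W := Module.isTorsionFree_iff_algebraMap_injective.2 hinj
  haveI : Module.Flat R W := inferInstance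
  haveI : Module.FaithfullyFlat R W := Module.FaithfullyFlat.of_flat_of_isLocalHom
  haveI : Module.Flat W (W ⊗[A] B) := by
    refine flat_tensorProduct hflat U.2.fromSpec V.2.fromSpec ?_ (m ≫ pullback.snd gR g) ?_
    · exact (U.2.SpecMap_appLE_fromSpec f V.2 e).symm
    · rw [Category.assoc, ← pullback.condition, ← Category.assoc, ← hψ]
      simp only [gR, φ, ← Category.assoc, ← Spec.map_comp]
      rfl
  haveI : Module.Flat W (W ⊗[R] (R ⊗[A] B)) :=
    Module.Flat.of_linearEquiv (AlgebraTensorModule.cancelBaseChange A R W W B)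
  exact Module.Flat.of_flat_tensorProduct R (R ⊗[A] B) W

end Groth.Agent.FlatSubm5
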